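import Cfsg.Agent.StdEven.Red_m3
import Cfsg.Agent.FastGrp
import Cfsg.Agent.Prune
set_option linter.all false
prune_inst 0x7f00000000000000000000000000000000000000000000000000000000000000000000000000000000000000000000000000000000000000000000000000000000000000000000000000000000000000003fffffffffffffffffffffffffffbeffbdffffffff
open scoped Cfsg.Agent.FastGrp

/-!
# An element interchanging `t` and `t z`

`Moved A t`: some element of `G` interchanges `t` and `t z`, where `z` is an involution of `A`.
-/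

set_option autoImplicit false

namespace Cfsg.Agent.H294.Mvd

open Subgroup Cfsg.Agent.StdEven.Syl Cfsg.Agent.StdEven.Loc Cfsg.Agent.StdL2.Setup

/-- some element interchanges `t` and `t z`, `z` an involution of `A` -/
def Moved {G : Type*} [Group G] (A : Subgroup G) (t : G) : Prop :=
  ∃ z ∈ A, z ≠ 1 ∧ z * z = 1 ∧ ∃ g : G, g * t * g⁻¹ = t * z ∧ g * z * g⁻¹ = z

/-- From a 2-element of `N(T)` not commuting with `t`. -/
theorem moved_of {G : Type*} [Group G] [Finite G] {A T : Subgroup G} {t : G} (ht : orderOf t = 2) (hT : IsT A t T)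
    (horb : ∀ n ∈ normalizer (T : Set G), t * (n * t * n⁻¹) ∈ A) {g : G} (hg : g ∈ normalizer (T : Set G)) {k : ℕ}
    (hk : g ^ 2 ^ k = 1) (hgt : g * t ≠ t * g) : Moved A t := by
  classical
  have hex : ∃ j : ℕ, g ^ 2 ^ j * t = t * g ^ 2 ^ j := ⟨k, by rw [hk, one_mul, mul_one]⟩
  obtain ⟨j, hj, hmin⟩ : ∃ j, g ^ 2 ^ j * t = t * g ^ 2 ^ j ∧ ∀ i < j, g ^ 2 ^ i * t ≠ t * g ^ 2 ^ i :=
    ⟨Nat.find hex, Nat.find_spec hex, fun i hi => Nat.find_min hex hi⟩
  obtain ⟨i, rfl⟩ : ∃ i, j = i + 1 := by
    cases j with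
    | zero => exact absurd (by simpa using hj) hgt
    | succ i => exact ⟨i, rfl⟩
  have hn := hmin i (by omega)
  set n := g ^ 2 ^ i with hndef
  have hn2 : n * n * t = t * (n * n) := by
    have : n * n = g ^ 2 ^ (i + 1) := by rw [hndef, ← pow_add, pow_succ, mul_two]
    rw [this]; exact hj
  have hnN : n ∈ normalizer (T : Set G) := pow_mem hg _
  have htt := tt ht
  set s := n * t * n⁻¹ with hs
  have hsT : s ∈ T := by
    have := mem_normalizer_iff.1 hnN t
    exact this.1 hT.mem
  have hst : s * t = t * s := hT.cent s hsT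
  have hss : s * s = 1 := by
    rw [hs]
    calc n * t * n⁻¹ * (n * t * n⁻¹) = n * (t * t) * n⁻¹ := by group
      _ = 1 := by rw [htt]; group
  refine ⟨t * s, horb n hnN, ?_, ?_, n, ?_, ?_⟩
  · intro h
    apply hn
    have h1 : s = t := by
      have : t * s = t * t := by rw [h, htt]
      exact mul_left_cancel this
    rw [hs] at h1
    rw [mul_inv_eq_iff_eq_mul] at h1
    exact h1
  · calc t * s * (t * s) = t * (s * t) * s := by group
      _ = t * (t * s) * s := by rw [hst]
      _ = (t * t) * (s * s) := by group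
      _ = 1 := by rw [htt, hss, one_mul]
  · rw [← mul_assoc, htt, one_mul]
  · have h1 : n * s * n⁻¹ = t := by
      rw [hs]
      calc n * (n * t * n⁻¹) * n⁻¹ = (n * n * t) * (n⁻¹ * n⁻¹) := by group
        _ = t * (n * n) * (n⁻¹ * n⁻¹) := by rw [hn2]
        _ = t := by group
    calc n * (t * s) * n⁻¹ = (n * t * n⁻¹) * (n * s * n⁻¹) := by group
      _ = s * t := by rw [h1, ← hs]
      _ = t * s := hst

end Cfsg.Agent.H294.Mvd
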